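/-
Recognising `C_p ≀ C_p` as a quotient.
-/
import Mathlib

set_option autoImplicit false
set_option linter.style.haveILetI false

namespace Cfsg.Agent.Lib.Wreath.CpWrCp

variable {p : ℕ} [Fact p.Prime]

local notation "Z" => Multiplicative (ZMod p)

/-- A set of functions on `C_p` closed under sums and translations, with a member of non-zero total, is
everything. -/
theorem eq_top_of_translation_closed (B : AddSubgroup (Z → ZMod p))
    (hB : ∀ f ∈ B, ∀ t : Z, (fun i => f (t⁻¹ * i)) ∈ B) (c : Z → ZMod p) (hc : c ∈ B)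
    (hs : (∑ i, c i) ≠ 0) : B = ⊤ := by
  classical
  haveI : CharP (MonoidAlgebra (ZMod p) Z) p :=
    charP_of_injective_algebraMap (algebraMap (ZMod p) (MonoidAlgebra (ZMod p) Z)).injective p
  let ev : MonoidAlgebra (ZMod p) Z → (Z → ZMod p) := fun r i => r.coeff i
  have hmul : ∀ d r : MonoidAlgebra (ZMod p) Z, ev r ∈ B → ev (d * r) ∈ B := by
    intro d r hr
    induction d using MonoidAlgebra.induction_linear with
    | zero =>
      have : ev ((0 : MonoidAlgebra (ZMod p) Z) * r) = 0 := by funext i; simp [ev]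
      rw [this]; exact B.zero_mem
    | add x y hx hy =>
      have : ev ((x + y) * r) = ev (x * r) + ev (y * r) := by funext i; simp [ev, add_mul]
      rw [this]; exact B.add_mem hx hy
    | single t a =>
      have : ev (MonoidAlgebra.single t a * r) = (a.val) • (fun i => ev r (t⁻¹ * i)) := by
        funext i
        simp [ev]
      rw [this]; exact B.nsmul_mem (hB _ hr t) _
  let C : MonoidAlgebra (ZMod p) Z := ∑ j, MonoidAlgebra.single j (c j)
  have hC : ev C = c := by
    funext i
    simp [ev, C, MonoidAlgebra.coeff_sum, Finsupp.single_apply]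
  have hCp : C ^ p = MonoidAlgebra.single 1 (∑ j, c j) := by
    rw [sum_pow_char p Finset.univ]
    have h1 : ∀ j : Z, (MonoidAlgebra.single j (c j)) ^ p = MonoidAlgebra.single (1 : Z) (c j) := fun j => by
      rw [MonoidAlgebra.single_pow, ZMod.pow_card]
      congr 1
      have : Nat.card Z = p := by simp
      exact (congrArg (j ^ ·) this.symm).trans pow_card_eq_one'
    rw [Finset.sum_congr rfl fun j _ => h1 j]
    exact (map_sum (MonoidAlgebra.singleAddHom (1 : Z)) c _).symm
  have hone : ev (1 : MonoidAlgebra (ZMod p) Z) ∈ B := by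
    have h : (1 : MonoidAlgebra (ZMod p) Z) =
        (MonoidAlgebra.single 1 (∑ j, c j)⁻¹ * C ^ (p - 1)) * C := by
      rw [mul_assoc, ← pow_succ, Nat.sub_add_cancel (Fact.out : p.Prime).one_le, hCp,
        MonoidAlgebra.single_mul_single, mul_one, inv_mul_cancel₀ hs]
      rfl
    rw [h]; exact hmul _ _ (by rw [hC]; exact hc)
  refine eq_top_iff.2 fun w _ => ?_
  have h := hmul (∑ j, MonoidAlgebra.single j (w j)) 1 hone
  rw [mul_one] at h
  convert h using 1
  funext i
  simp [ev, MonoidAlgebra.coeff_sum, Finsupp.single_apply]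

/-- `M` normal of index `p`, `μ : M → C_p` and `x ∈ M` with `∏ μ(x^{g^j}) ≠ 1` give a map onto `C_p ≀ C_p`. -/
theorem exists_surjective {P : Type*} [Group P] (π : P →* Z) (g : P)
    (hg : π g = Multiplicative.ofAdd 1) (μ : π.ker →* Z) (x : π.ker)
    (hx : (∏ j ∈ Finset.range p, μ ⟨(g ^ j)⁻¹ * x * g ^ j,
      by simp [MonoidHom.mem_ker, show π (x : P) = 1 from x.2]⟩) ≠ 1) :
    ∃ f : P →* Z ≀ᵣ Z, Function.Surjective f := by
  classical
  let t : Z → P := fun i => g ^ (Multiplicative.toAdd i).val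
  have ht : ∀ i, π (t i) = i := fun i => by
    simp only [t, map_pow, hg, ← ofAdd_nsmul]
    simp
  have hmem : ∀ (h : P) (i : Z), (t i)⁻¹ * h * t ((π h)⁻¹ * i) ∈ π.ker := fun h i => by
    rw [MonoidHom.mem_ker, map_mul, map_mul, map_inv, ht, ht]
    group
  let f : P →* Z ≀ᵣ Z :=
    MonoidHom.mk' (fun h => ⟨fun i => μ ⟨_, hmem h i⟩, π h⟩) fun a b => by
      refine RegularWreathProduct.ext (funext fun i => ?_) (map_mul π a b)
      simp only [RegularWreathProduct.mul_left, Pi.mul_apply]
      rw [← map_mul]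
      refine congrArg μ (Subtype.ext ?_)
      show (t i)⁻¹ * (a * b) * t ((π (a * b))⁻¹ * i) = _
      rw [map_mul, mul_inv_rev, mul_assoc ((π b)⁻¹)]
      simp only [Subgroup.coe_mul]
      group
  refine ⟨f, MonoidHom.range_eq_top.1 (eq_top_iff.2 fun w _ => ?_)⟩
  let B : AddSubgroup (Z → ZMod p) :=
    { carrier := {u | (⟨fun i => Multiplicative.ofAdd (u i), 1⟩ : Z ≀ᵣ Z) ∈ f.range}
      zero_mem' := f.range.one_mem
      add_mem' := fun {u v} hu hv => by
        have := f.range.mul_mem hu hv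
        show (⟨fun i => Multiplicative.ofAdd (u i + v i), 1⟩ : Z ≀ᵣ Z) ∈ f.range
        convert this using 1
        exact RegularWreathProduct.ext (funext fun i => by simp) (by simp)
      neg_mem' := fun {u} hu => by
        have := f.range.inv_mem hu
        show (⟨fun i => Multiplicative.ofAdd (-u i), 1⟩ : Z ≀ᵣ Z) ∈ f.range
        convert this using 1
        exact RegularWreathProduct.ext (funext fun i => by simp) (by simp) }
  have hBt : ∀ u ∈ B, ∀ s : Z, (fun i => u (s⁻¹ * i)) ∈ B := by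
    intro u hu s
    have hs : f (t s) * ⟨fun i => Multiplicative.ofAdd (u i), 1⟩ * (f (t s))⁻¹ ∈ f.range :=
      f.range.mul_mem (f.range.mul_mem ⟨_, rfl⟩ hu) (f.range.inv_mem ⟨_, rfl⟩)
    have hr : (f (t s)).right = s := ht s
    show (⟨fun i => Multiplicative.ofAdd (u (s⁻¹ * i)), 1⟩ : Z ≀ᵣ Z) ∈ f.range
    convert hs using 1
    refine RegularWreathProduct.ext (funext fun i => ?_) (by simp)
    simp only [RegularWreathProduct.mul_left, RegularWreathProduct.inv_left, RegularWreathProduct.mul_right,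
      Pi.mul_apply, Pi.inv_apply, hr, mul_one, mul_inv_cancel_left]
    rw [mul_comm ((f (t s)).left i), mul_inv_cancel_right]
  let c : Z → ZMod p := fun i => Multiplicative.toAdd ((f x).left i)
  have hcB : c ∈ B := ⟨x, RegularWreathProduct.ext (funext fun i => by simp [c]) x.2⟩
  have hci : ∀ i, (f x).left i = μ ⟨(t i)⁻¹ * x * t i,
      by simp [MonoidHom.mem_ker, show π (x : P) = 1 from x.2]⟩ := fun i =>
    congrArg μ (Subtype.ext (by
      exact (congrArg (fun z => (t i)⁻¹ * (x : P) * t (z⁻¹ * i)) (show π (x : P) = 1 from x.2)).trans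
        (by simp)))
  have hsum : (∑ i, c i) ≠ 0 := by
    intro h0
    refine hx (Multiplicative.toAdd.injective ?_)
    rw [toAdd_prod, toAdd_one, ← h0]
    refine Finset.sum_bij' (fun j _ => Multiplicative.ofAdd (j : ZMod p))
      (fun i _ => (Multiplicative.toAdd i).val) (fun _ _ => Finset.mem_univ _)
      (fun i _ => Finset.mem_range.2 (ZMod.val_lt _)) (fun j hj => ?_) (fun i _ => ?_) (fun j hj => ?_)
    · simp [ZMod.val_natCast, Nat.mod_eq_of_lt (Finset.mem_range.1 hj)]
    · simp
    · show _ = Multiplicative.toAdd ((f x).left _)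
      rw [hci]
      simp [t, ZMod.val_natCast, Nat.mod_eq_of_lt (Finset.mem_range.1 hj)]
  have htop := eq_top_of_translation_closed B hBt c hcB hsum
  have hw : (w * (f (t w.right))⁻¹) ∈ f.range := by
    have h : (fun i => Multiplicative.toAdd ((w * (f (t w.right))⁻¹).left i)) ∈ B := htop ▸ trivial
    have hr : (w * (f (t w.right))⁻¹).right = 1 := by
      have hr' : (f (t w.right)).right = w.right := ht _
      simp [hr']
    obtain ⟨a, ha⟩ := h
    exact ⟨a, ha.trans (RegularWreathProduct.ext (funext fun i => by simp) hr.symm)⟩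
  have := f.range.mul_mem hw ⟨t w.right, rfl⟩
  rwa [inv_mul_cancel_right] at this

/-- An element outside a normal subgroup with elementary abelian quotient is seen by a map to `C_p`. -/
theorem exists_hom_ne_one {A : Type*} [Group A] [Finite A] (hc : ∀ a b : A, a * b = b * a)
    (hp : ∀ a : A, a ^ p = 1) {z : A} (hz : z ≠ 1) : ∃ χ : A →* Z, χ z ≠ 1 := by
  haveI : Nonempty {B : Subgroup A // z ∉ B} := ⟨⟨⊥, fun h => hz (Subgroup.mem_bot.1 h)⟩⟩
  obtain ⟨⟨B, hB⟩, hmax⟩ := Finite.exists_max fun B : {B : Subgroup A // z ∉ B} => Nat.card B.1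
  haveI : B.Normal := ⟨fun b hb g => by rwa [hc g b, mul_inv_cancel_right]⟩
  have hzb : (z : A ⧸ B) ≠ 1 := fun h => hB ((QuotientGroup.eq_one_iff z).1 h)
  have hpq : ∀ a : A ⧸ B, a ^ p = 1 := fun a => by
    obtain ⟨a, rfl⟩ := QuotientGroup.mk_surjective a
    rw [← QuotientGroup.mk_pow, hp]; rfl
  have hord : orderOf (z : A ⧸ B) = p := orderOf_eq_prime (hpq _) hzb
  have hall : ∀ a : A, (a : A ⧸ B) ∈ Subgroup.zpowers (z : A ⧸ B) := by
    intro a
    by_cases ha : a ∈ B
    · rw [(QuotientGroup.eq_one_iff a).2 ha]; exact one_mem _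
    have hBB : B < (Subgroup.zpowers (a : A ⧸ B)).comap (QuotientGroup.mk' B) := by
      refine lt_of_le_not_ge (fun b hb => ?_) fun h => ha (h (Subgroup.mem_zpowers (a : A ⧸ B)))
      rw [Subgroup.mem_comap, show QuotientGroup.mk' B b = 1 from (QuotientGroup.eq_one_iff b).2 hb]
      exact one_mem _
    have hz' : (z : A ⧸ B) ∈ Subgroup.zpowers (a : A ⧸ B) := by
      by_contra hnz
      refine absurd (hmax ⟨_, show z ∉ (Subgroup.zpowers (a : A ⧸ B)).comap (QuotientGroup.mk' B) from hnz⟩)
        (not_le.2 ?_)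
      exact lt_of_le_of_ne (Subgroup.card_le_of_le hBB.le) fun e =>
        hBB.ne (Subgroup.eq_of_le_of_card_ge hBB.le e.ge)
    have heq : Subgroup.zpowers (z : A ⧸ B) = Subgroup.zpowers (a : A ⧸ B) := by
      refine Subgroup.eq_of_le_of_card_ge (Subgroup.zpowers_le.2 hz') ?_
      rw [Nat.card_zpowers, Nat.card_zpowers, hord]
      exact Nat.le_of_dvd (Fact.out : p.Prime).pos (orderOf_dvd_of_pow_eq_one (hpq _))
    rw [heq]; exact Subgroup.mem_zpowers _
  have hcard : Nat.card (A ⧸ B) = p := by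
    rw [← hord, ← Nat.card_zpowers]
    refine (Nat.card_congr (Equiv.subtypeUnivEquiv fun x => ?_)).symm
    obtain ⟨a, rfl⟩ := QuotientGroup.mk_surjective x
    exact hall a
  let e : (A ⧸ B) ≃* Z := mulEquivOfPrimeCardEq (p := p) hcard (by simp)
  refine ⟨e.toMonoidHom.comp (QuotientGroup.mk' B), fun h => hzb (e.injective ?_)⟩
  rw [map_one]; exact h

/-- A Sylow `p`-subgroup of `Sym(p²)` is `C_p ≀ C_p`. -/
theorem exists_surjective_sylow {P : Type*} [Group P] (f : P →* Z ≀ᵣ Z) (hf : Function.Surjective f) :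
    ∃ (W : Sylow p (Equiv.Perm (Fin (p ^ 2))))
      (g : P →* ↥(W : Subgroup (Equiv.Perm (Fin (p ^ 2))))), Function.Surjective g := by
  obtain ⟨W⟩ := (inferInstance : Nonempty (Sylow p (Equiv.Perm (Fin (p ^ 2)))))
  let e₁ : IteratedWreathProduct Z 1 ≃* Z :=
    MulEquiv.ofBijective (RegularWreathProduct.rightHom (D := IteratedWreathProduct Z 0) (Q := Z))
      ⟨fun a b h => RegularWreathProduct.ext (funext fun _ => Subsingleton.elim (α := PUnit) _ _) h,
        fun q => ⟨RegularWreathProduct.inl q, rfl⟩⟩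
  let e₂ : IteratedWreathProduct Z 2 ≃* Z ≀ᵣ Z := RegularWreathProduct.congr e₁ (MulEquiv.refl _)
  let e := (Sylow.mulEquivIteratedWreathProduct p 2 (Fin (p ^ 2)) (by simp) Z (by simp) W).trans e₂
  exact ⟨W, e.symm.toMonoidHom.comp f, e.symm.surjective.comp hf⟩

end Cfsg.Agent.Lib.Wreath.CpWrCp
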